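import Groth.Agent.Lib.GrAlpha9.Algebra
import Groth.Agent.Lib.RelTilde8.Sections

/-!
# `M_n → Γ(Proj, M(n)~)` is bijective in large degrees
-/

universe u

set_option autoImplicit false
set_option backward.isDefEq.respectTransparency false

open AlgebraicGeometry CategoryTheory TopologicalSpace Opposite DirectSum
open GrothLib.InvExt (mres)

noncomputable section

namespace GrothLib.GrAlpha9

open GrothLib.RelTilde8

variable {A σ : Type u} [CommRing A] [SetLike σ A] [AddSubgroupClass σ A] (𝒜 : ℕ → σ) [GradedRing 𝒜]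
variable {M τ : Type u} [AddCommGroup M] [Module A M] [SetLike τ M] [AddSubgroupClass τ M] (ℳ : ℕ → τ)
variable [SetLike.GradedSMul 𝒜 ℳ] [DirectSum.Decomposition ℳ]

theorem exists_generators_irrelevant [IsNoetherianRing A] :
    ∃ (s : ℕ) (f : Fin s → A) (d : Fin s → ℕ), (∀ i, 0 < d i) ∧ (∀ i, f i ∈ 𝒜 (d i)) ∧
      (HomogeneousIdeal.irrelevant 𝒜).toIdeal ≤ Ideal.span (Set.range f) := by
  classical
  have hfg : (Ideal.span (⋃ i > 0, (𝒜 i : Set A))).FG := IsNoetherian.noetherian _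
  obtain ⟨T, hT, hspan⟩ := (Submodule.fg_span_iff_fg_span_finset_subset _).mp hfg
  choose d hd hmem using fun t : T => Set.mem_iUnion₂.mp (hT t.2)
  refine ⟨T.card, fun i => (T.equivFin.symm i : A), fun i => d (T.equivFin.symm i), fun i => hd _, fun i => hmem _, ?_⟩
  rw [HomogeneousIdeal.irrelevant_eq_span]
  refine (le_of_eq hspan).trans (Submodule.span_mono fun t ht => ⟨T.equivFin ⟨t, ht⟩, by simp⟩)

theorem exists_notMem_gen {s : ℕ} {f : Fin s → A}
    (hirr : (HomogeneousIdeal.irrelevant 𝒜).toIdeal ≤ Ideal.span (Set.range f)) (y : ProjectiveSpectrum 𝒜) :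
    ∃ i, f i ∉ y.asHomogeneousIdeal := by
  by_contra hc
  push_neg at hc
  exact y.not_irrelevant_le fun a ha => Ideal.span_le.mpr (by rintro _ ⟨i, rfl⟩; exact hc i) (hirr ha)

variable {ℳ} in
include 𝒜 in
theorem homg_span (k : ℕ) : Homg ℳ (Submodule.span A (⋃ i ∈ Set.Ici k, (ℳ i : Set M))) := by
  intro n v hv
  suffices H : ∀ b : A, ((decompose ℳ (b • v) n : ℳ n) : M) ∈ Submodule.span A (⋃ i ∈ Set.Ici k, (ℳ i : Set M)) by
    simpa using H 1
  induction hv using Submodule.span_induction with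
  | zero => intro b; simp
  | add x y _ _ hx hy =>
    intro b
    rw [smul_add, decompose_add, DirectSum.add_apply, AddMemClass.coe_add]
    exact add_mem (hx b) (hy b)
  | smul c x _ hx => intro b; rw [← mul_smul]; exact hx _
  | mem z hz =>
    intro b
    obtain ⟨e, he, hz⟩ := Set.mem_iUnion₂.1 hz
    by_cases h : e ≤ n
    · exact Submodule.subset_span (Set.mem_iUnion₂.2 ⟨n, le_trans (Set.mem_Ici.1 he) h, SetLike.coe_mem _⟩)
    · suffices h0 : ((decompose ℳ (b • z) n : ℳ n) : M) = 0 by rw [h0]; exact zero_mem _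
      refine DirectSum.Decomposition.inductionOn 𝒜 (motive := fun b : A =>
        ((decompose ℳ (b • z) n : ℳ n) : M) = 0) ?_ ?_ ?_ b
      · simp
      · intro l c
        exact decompose_of_mem_ne ℳ (GrAlpha9.smul_mem c.2 hz) (by omega)
      · intro x y hx hy
        rw [add_smul, decompose_add, DirectSum.add_apply, AddMemClass.coe_add, hx, hy, add_zero]

omit [SetLike.GradedSMul 𝒜 ℳ] in
theorem homg_bot : Homg ℳ (⊥ : Submodule A M) := fun i v hv => by
  rw [(Submodule.mem_bot A).1 hv, decompose_zero, DirectSum.zero_apply, ZeroMemClass.coe_zero]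
  exact zero_mem _

variable {ℳ} in
/-- Large pieces inside `P` suffice. -/
theorem goodAt_top {ι : Type*} {f : ι → A} {d : ι → ℕ} {P : Submodule A M} {n : ℕ}
    (hP : ∀ p v, n ≤ p → v ∈ ℳ p → v ∈ P) (h : GoodAt f d ℳ P ⊥ n) : GoodAt f d ℳ (⊤ : Submodule A M) ⊥ n :=
  ⟨fun m hm _ ht => h.1 m hm (hP n m le_rfl hm) ht, fun k a ha hc => by
    obtain ⟨m, hm, -, hL⟩ := h.2 k a (fun i => ⟨(ha i).1, hP _ _ (Nat.le_add_left n _) (ha i).1⟩) hc
    exact ⟨m, hm, trivial, hL⟩⟩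

/-- Good degrees have bijective `α`. -/
theorem bijective_alpha_of_goodAt {s : ℕ} {f : Fin s → A} {d : Fin s → ℕ} (hd : ∀ i, 0 < d i)
    (hf : ∀ i, f i ∈ 𝒜 (d i)) (hirr : (HomogeneousIdeal.irrelevant 𝒜).toIdeal ≤ Ideal.span (Set.range f)) {n : ℕ}
    (hgood : GoodAt f d ℳ (⊤ : Submodule A M) ⊥ n) : Function.Bijective (_root_.GrMod.alpha 𝒜 ℳ n) := by
  classical
  refine ⟨?_, fun t => ?_⟩
  · rw [injective_iff_map_eq_zero]
    intro m hm
    refine Subtype.ext ?_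
    have h := hgood.1 m m.2 trivial fun i => by
      obtain ⟨L, hL⟩ := exists_pow_smul_eq_zero 𝒜 (hf i) (hd i) m.2 fun y _ => by
        have h1 : LocalizedModule.mk (m : M) (1 : y.asHomogeneousIdeal.toIdeal.primeCompl) = 0 :=
          congrArg (fun q => evM (⟨y, trivial⟩ : (⊤ : (Proj 𝒜).Opens)) q) hm
        rw [← LocalizedModule.zero_mk (1 : y.asHomogeneousIdeal.toIdeal.primeCompl), LocalizedModule.mk_eq] at h1
        obtain ⟨u, hu⟩ := h1
        exact ⟨u.1, u.2, by simpa [Submonoid.smul_def] using hu⟩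
      exact ⟨L, (Submodule.mem_bot A).2 hL⟩
    exact (Submodule.mem_bot A).1 h
  choose k hk p a hp ha hval using fun i => exists_frac (n := (n : ℤ)) 𝒜 (hf i) (hd i)
    (mres (_root_.GrMod.tilde 𝒜 ℳ (n : ℤ)) (le_top : Proj.basicOpen 𝒜 (f i) ≤ ⊤) t)
  let K := Finset.univ.sup k
  have hkK : ∀ i, k i ≤ K := fun i => Finset.le_sup (Finset.mem_univ i)
  let b : Fin s → M := fun i => f i ^ (K - k i) • a i
  have hb : ∀ i, b i ∈ ℳ (K * d i + n) := fun i => by
    have h := GrAlpha9.smul_mem (pow_mem hf i (K - k i)) (ha i)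
    have e : (K - k i) * d i + p i = K * d i + n := by
      have hpi : p i = k i * d i + n := by exact_mod_cast hp i
      rw [hpi, ← Nat.add_assoc, ← Nat.add_mul, Nat.sub_add_cancel (hkK i)]
    rwa [e] at h
  have hvb : ∀ i (y : Proj 𝒜) (hy : f i ∉ y.asHomogeneousIdeal),
      evM (⟨y, trivial⟩ : (⊤ : (Proj 𝒜).Opens)) t = LocalizedModule.mk (b i)
        (⟨f i ^ K, fun hm => hy (y.isPrime.mem_of_pow_mem K hm)⟩ : y.asHomogeneousIdeal.toIdeal.primeCompl) :=
    fun i y hy => by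
      refine ((evM_mres (le_top : Proj.basicOpen 𝒜 (f i) ≤ ⊤) t ⟨y, hy⟩).symm.trans (hval i ⟨y, hy⟩)).trans ?_
      rw [LocalizedModule.mk_eq]
      refine ⟨1, ?_⟩
      simp only [one_smul, Submonoid.smul_def, b, ← mul_smul, ← pow_add, Nat.add_sub_cancel' (hkK i)]
  obtain ⟨m, hm, -, hL⟩ := hgood.2 K b
    (fun i => ⟨hb i, trivial⟩) fun i j => by
    obtain ⟨L, hL⟩ := exists_pow_smul_eq 𝒜 (h := f i * f j) (n := (n : ℤ))
      (SetLike.mul_mem_graded (hf i) (hf j)) (Nat.add_pos_left (hd i) _) (hb i) (hb j) (pow_mem hf i K) (pow_mem hf j K)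
      (Or.inl (by push_cast; ring)) (Or.inl (by push_cast; ring)) fun y hy => by
      obtain ⟨hi, hj⟩ := mem_basicOpen_mul.1 hy
      obtain ⟨u, hu⟩ := LocalizedModule.mk_eq.1 ((hvb i y hi).symm.trans (hvb j y hj))
      exact ⟨u.1, u.2, by simpa [Submonoid.smul_def] using hu⟩
    exact ⟨L, (Submodule.mem_bot A).2 (by rw [smul_sub, hL, sub_self])⟩
  refine ⟨⟨m, hm⟩, evM_ext fun y => ?_⟩
  obtain ⟨i, hi⟩ := exists_notMem_gen 𝒜 hirr y.1
  obtain ⟨L, hL'⟩ := hL i
  show LocalizedModule.mk m (1 : y.1.asHomogeneousIdeal.toIdeal.primeCompl) = evM y t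
  refine Eq.trans ?_ (hvb i y.1 hi).symm
  rw [LocalizedModule.mk_eq]
  refine ⟨⟨f i ^ L, fun h => hi (y.1.isPrime.mem_of_pow_mem L h)⟩, ?_⟩
  simp only [one_smul, Submonoid.smul_def]
  rw [Submodule.mem_bot, smul_sub, sub_eq_zero] at hL'
  exact hL'

theorem eventually_bijective [IsNoetherianRing A]
    (hTF : ∃ k : ℕ, (Submodule.span A (⋃ i ∈ Set.Ici k, (ℳ i : Set M))).FG) :
    ∃ N : ℕ, ∀ n : ℕ, N ≤ n → Function.Bijective (_root_.GrMod.alpha 𝒜 ℳ n) := by
  obtain ⟨k₀, hfg⟩ := hTF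
  obtain ⟨s, f, d, hd, hf, hirr⟩ := exists_generators_irrelevant 𝒜
  obtain ⟨N, hN⟩ := exists_good (ℳ := ℳ) hf hirr (homg_span 𝒜 k₀) (homg_bot ℳ) hfg
  exact ⟨max N k₀, fun n hn => bijective_alpha_of_goodAt 𝒜 ℳ hd hf hirr
    (goodAt_top (fun p v hp hv => Submodule.subset_span (Set.mem_iUnion₂.2
      ⟨p, Set.mem_Ici.2 ((le_max_right _ _).trans (hn.trans hp)), hv⟩)) (hN n ((le_max_left _ _).trans hn)))⟩

end GrothLib.GrAlpha9
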