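import Mathlib

/-!
# Compatible families of fractions come from the module in large degrees

Induction on the number of generators of the irrelevant ideal not killing a subquotient `P/Q`.
-/

universe u v

set_option autoImplicit false

open DirectSum

namespace GrothLib.GrAlpha9

variable {A σ : Type u} [CommRing A] [SetLike σ A] [AddSubgroupClass σ A] {𝒜 : ℕ → σ} [GradedRing 𝒜]
variable {M τ : Type u} [AddCommGroup M] [Module A M] [SetLike τ M] [AddSubgroupClass τ M] {ℳ : ℕ → τ}
variable [SetLike.GradedSMul 𝒜 ℳ] [DirectSum.Decomposition ℳ]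

variable (ℳ) in
/-- A submodule closed under components. -/
def Homg (P : Submodule A M) : Prop := ∀ i, ∀ v ∈ P, ((decompose ℳ v i : ℳ i) : M) ∈ P

omit [DirectSum.Decomposition ℳ] in
theorem smul_mem {i j : ℕ} {a : A} {m : M} (ha : a ∈ 𝒜 i) (hm : m ∈ ℳ j) : a • m ∈ ℳ (i + j) :=
  SetLike.GradedSMul.smul_mem (A := 𝒜) ha hm

theorem decompose_smul {l : ℕ} {a : A} (ha : a ∈ 𝒜 l) (v : M) (i : ℕ) :
    ((decompose ℳ (a • v) (l + i) : ℳ (l + i)) : M) = a • ((decompose ℳ v i : ℳ i) : M) := by
  classical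
  refine DirectSum.Decomposition.inductionOn ℳ (motive := fun v : M =>
    ((decompose ℳ (a • v) (l + i) : ℳ (l + i)) : M) = a • ((decompose ℳ v i : ℳ i) : M)) ?_ ?_ ?_ v
  · simp
  · intro k w
    rcases eq_or_ne k i with rfl | hk
    · rw [decompose_of_mem_same ℳ (smul_mem ha w.2), decompose_of_mem_same ℳ w.2]
    · rw [decompose_of_mem_ne ℳ (smul_mem ha w.2) (fun h => hk (Nat.add_left_cancel h)),
        decompose_of_mem_ne ℳ w.2 hk, smul_zero]
  · intro x y hx hy
    rw [smul_add, decompose_add, decompose_add, DirectSum.add_apply, DirectSum.add_apply,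
      AddMemClass.coe_add, AddMemClass.coe_add, hx, hy, smul_add]

theorem decompose_smul_of_lt {l : ℕ} {a : A} (ha : a ∈ 𝒜 l) (v : M) {j : ℕ} (hj : j < l) :
    ((decompose ℳ (a • v) j : ℳ j) : M) = 0 := by
  classical
  refine DirectSum.Decomposition.inductionOn ℳ (motive := fun v : M =>
    ((decompose ℳ (a • v) j : ℳ j) : M) = 0) ?_ ?_ ?_ v
  · simp
  · intro k w
    exact decompose_of_mem_ne ℳ (smul_mem ha w.2) (by omega)
  · intro x y hx hy
    rw [smul_add, decompose_add, DirectSum.add_apply, AddMemClass.coe_add, hx, hy, add_zero]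

/-- Elements of `P` that `g` sends into `Q`. -/
def kerI (P Q : Submodule A M) (g : A) : Submodule A M := P ⊓ Q.comap (LinearMap.lsmul A M g)

/-- `g P + Q`. -/
def imI (P Q : Submodule A M) (g : A) : Submodule A M := P.map (LinearMap.lsmul A M g) ⊔ Q

omit [DirectSum.Decomposition ℳ] in
theorem mem_kerI {P Q : Submodule A M} {g : A} {v : M} : v ∈ kerI P Q g ↔ v ∈ P ∧ g • v ∈ Q := Iff.rfl

theorem mem_imI {P Q : Submodule A M} {g : A} {v : M} : v ∈ imI P Q g ↔ ∃ p ∈ P, ∃ q ∈ Q, g • p + q = v := by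
  rw [imI, Submodule.mem_sup]
  constructor
  · rintro ⟨_, ⟨p, hp, rfl⟩, q, hq, rfl⟩
    exact ⟨p, hp, q, hq, rfl⟩
  · rintro ⟨p, hp, q, hq, rfl⟩
    exact ⟨_, ⟨p, hp, rfl⟩, q, hq, rfl⟩

theorem homg_kerI {P Q : Submodule A M} (hP : Homg ℳ P) (hQ : Homg ℳ Q) {l : ℕ} {g : A} (hg : g ∈ 𝒜 l) :
    Homg ℳ (kerI P Q g) := fun i v hv => ⟨hP i v hv.1, by
  have := hQ (l + i) (g • v) hv.2
  rwa [decompose_smul hg] at this⟩

theorem homg_imI {P Q : Submodule A M} (hP : Homg ℳ P) (hQ : Homg ℳ Q) {l : ℕ} {g : A} (hg : g ∈ 𝒜 l) :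
    Homg ℳ (imI P Q g) := fun i v hv => by
  obtain ⟨p, hp, q, hq, rfl⟩ := mem_imI.1 hv
  rw [decompose_add, DirectSum.add_apply, AddMemClass.coe_add]
  refine add_mem ?_ ((le_sup_right : Q ≤ imI P Q g) (hQ i q hq))
  by_cases h : l ≤ i
  · obtain ⟨i', rfl⟩ := Nat.exists_eq_add_of_le h
    rw [decompose_smul hg]
    exact mem_imI.2 ⟨_, hP i' p hp, 0, zero_mem _, add_zero _⟩
  · rw [decompose_smul_of_lt hg p (not_le.1 h)]
    exact zero_mem _

variable {ι : Type v} (f : ι → A) (d : ι → ℕ)

/-- Killed by a power of each generator, modulo `Q`. -/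
def Tors (Q : Submodule A M) (m : M) : Prop := ∀ i, ∃ L : ℕ, f i ^ L • m ∈ Q

/-- A compatible family of fractions of numerators `a i` over `f i ^ k`. -/
def Compat (Q : Submodule A M) (k : ℕ) (a : ι → M) : Prop :=
  ∀ i j, ∃ L : ℕ, (f i * f j) ^ L • (f j ^ k • a i - f i ^ k • a j) ∈ Q

/-- The family comes from an element of degree `n`. -/
def Glues (ℳ : ℕ → τ) (P Q : Submodule A M) (n k : ℕ) (a : ι → M) : Prop :=
  ∃ m, m ∈ ℳ n ∧ m ∈ P ∧ ∀ i, ∃ L : ℕ, f i ^ L • (f i ^ k • m - a i) ∈ Q

/-- Degree `n` is good for `P/Q`. -/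
def GoodAt (ℳ : ℕ → τ) (P Q : Submodule A M) (n : ℕ) : Prop :=
  (∀ m ∈ ℳ n, m ∈ P → Tors f Q m → m ∈ Q) ∧
    ∀ (k : ℕ) (a : ι → M), (∀ i, a i ∈ ℳ (k * d i + n) ∧ a i ∈ P) → Compat f Q k a → Glues f ℳ P Q n k a

/-- Large degrees are good. -/
def Good (ℳ : ℕ → τ) (P Q : Submodule A M) : Prop := ∃ N, ∀ n, N ≤ n → GoodAt f d ℳ P Q n

variable {f d} (hf : ∀ i, f i ∈ 𝒜 (d i))
include hf

omit [DirectSum.Decomposition ℳ] in
theorem pow_mem (i : ι) (L : ℕ) : f i ^ L ∈ 𝒜 (L * d i) := by
  simpa [smul_eq_mul] using SetLike.pow_mem_graded L (hf i)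

theorem good_of_killed {P Q : Submodule A M} (hP : Homg ℳ P) (hQ : Homg ℳ Q) (hfg : P.FG)
    (hirr : (HomogeneousIdeal.irrelevant 𝒜).toIdeal ≤ Ideal.span (Set.range f))
    (hkill : ∀ i, ∀ v ∈ P, f i • v ∈ Q) : Good f d ℳ P Q := by
  classical
  obtain ⟨S, hS⟩ := hfg
  have hbound : ∃ N, ∀ n, N ≤ n → ∀ v ∈ P, ((decompose ℳ v n : ℳ n) : M) ∈ Q := by
    refine ⟨(S.sup fun z => (decompose ℳ z).support.sup id) + 1, fun n hn v hv => ?_⟩
    suffices H : ∀ b : A, ((decompose ℳ (b • v) n : ℳ n) : M) ∈ Q by simpa using H 1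
    rw [← hS] at hv
    induction hv using Submodule.span_induction with
    | zero => intro b; simp
    | add x y _ _ hx hy =>
      intro b
      rw [smul_add, decompose_add, DirectSum.add_apply, AddMemClass.coe_add]
      exact add_mem (hx b) (hy b)
    | smul c x _ hx => intro b; rw [← mul_smul]; exact hx _
    | mem z hz =>
      intro b
      refine DirectSum.Decomposition.inductionOn 𝒜 (motive := fun b : A =>
        ((decompose ℳ (b • z) n : ℳ n) : M) ∈ Q) ?_ ?_ ?_ b
      · simp
      · intro l c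
        by_cases hl : l ≤ n
        · obtain ⟨i, rfl⟩ := Nat.exists_eq_add_of_le hl
          rw [decompose_smul c.2]
          have hzP : z ∈ P := hS ▸ Submodule.subset_span hz
          rcases Nat.eq_zero_or_pos l with rfl | hpos
          · have h0 : ((decompose ℳ z i : ℳ i) : M) = 0 := by
              by_contra hne
              have hmem : i ∈ (decompose ℳ z).support :=
                DFinsupp.mem_support_iff.2 fun h => hne (by rw [h, ZeroMemClass.coe_zero])
              have h1 := (Finset.le_sup (f := id) hmem).trans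
                (Finset.le_sup (f := fun z => (decompose ℳ z).support.sup id) hz)
              simp only [id_eq] at h1
              omega
            rw [h0, smul_zero]
            exact zero_mem _
          · have hc : (c : A) ∈ Ideal.span (Set.range f) :=
              hirr (HomogeneousIdeal.mem_irrelevant_of_mem 𝒜 hpos c.2)
            generalize (c : A) = c₀ at hc
            induction hc using Submodule.span_induction with
            | mem x hx => obtain ⟨j, rfl⟩ := hx; exact hkill j _ (hP i z hzP)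
            | zero => simp
            | add x y _ _ hx hy => rw [add_smul]; exact add_mem hx hy
            | smul r x _ hx => rw [smul_eq_mul, mul_smul]; exact Q.smul_mem r hx
        · rw [decompose_smul_of_lt c.2 z (not_le.1 hl)]
          exact zero_mem _
      · intro x y hx hy
        rw [add_smul, decompose_add, DirectSum.add_apply, AddMemClass.coe_add]
        exact add_mem hx hy
  obtain ⟨N, hN⟩ := hbound
  refine ⟨N, fun n hn => ⟨fun m hm hmP _ => ?_, fun k a ha _ => ?_⟩⟩
  · simpa [decompose_of_mem_same ℳ hm] using hN n hn m hmP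
  · exact ⟨0, zero_mem _, zero_mem _, fun i => ⟨1, by
      rw [pow_one, smul_zero, zero_sub, smul_neg]
      exact neg_mem (hkill i _ (ha i).2)⟩⟩

theorem good_step [Finite ι] {P Q : Submodule A M} (hP : Homg ℳ P) (hQ : Homg ℳ Q) (j : ι)
    (h1 : Good f d ℳ (kerI P Q (f j)) Q) (h2 : Good f d ℳ P (imI P Q (f j))) : Good f d ℳ P Q := by
  classical
  cases nonempty_fintype ι
  obtain ⟨N₁, h₁⟩ := h1
  obtain ⟨N₂, h₂⟩ := h2
  have hinj : ∀ (L n : ℕ), N₁ + N₂ ≤ n → ∀ m ∈ ℳ n, m ∈ P → Tors f Q m → f j ^ L • m ∈ Q → m ∈ Q := by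
    intro L
    induction L with
    | zero => intro n _ m _ _ _ h; simpa using h
    | succ L ih =>
      intro n hn m hm hmP ht h
      refine ih n hn m hm hmP ht ?_
      refine (h₁ (L * d j + n) (by omega)).1 _ (smul_mem (pow_mem hf j L) hm) ⟨P.smul_mem _ hmP, ?_⟩ fun i => ?_
      · show f j • f j ^ L • m ∈ Q
        rwa [← mul_smul, ← pow_succ']
      · obtain ⟨L', hL'⟩ := ht i
        exact ⟨L', by rw [smul_comm]; exact Q.smul_mem _ hL'⟩
  refine ⟨N₁ + N₂, fun n hn => ⟨fun m hm hmP ht => ?_, fun k a ha hc => ?_⟩⟩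
  · obtain ⟨L, hL⟩ := ht j
    exact hinj L n hn m hm hmP ht hL
  -- `f j` is injective on families modulo gluable ones
  have hstep : ∀ (n : ℕ), N₁ + N₂ ≤ n → ∀ (k : ℕ) (a : ι → M), (∀ i, a i ∈ ℳ (k * d i + n) ∧ a i ∈ P) →
      Compat f Q k a → Glues f ℳ P Q (d j + n) k (fun i => f j • a i) → Glues f ℳ P Q n k a := by
    intro n hn k a ha hc ⟨m, hm, hmP, hL⟩
    have hmQ' : m ∈ imI P Q (f j) := (h₂ (d j + n) (by omega)).1 m hm hmP fun i => by
      obtain ⟨L, hL'⟩ := hL i
      refine ⟨L + k, mem_imI.2 ⟨f i ^ L • a i, P.smul_mem _ (ha i).2, _, hL', ?_⟩⟩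
      rw [smul_sub, pow_add, mul_smul, smul_comm (f j) (f i ^ L)]
      abel
    obtain ⟨p, hp, q, hq, hpq⟩ := mem_imI.1 hmQ'
    let p' : M := (decompose ℳ p n : ℳ n)
    have hp' : p' ∈ ℳ n := SetLike.coe_mem _
    have hdiff : m - f j • p' ∈ Q := by
      have h := hQ (d j + n) q hq
      rw [eq_sub_of_add_eq' hpq, decompose_sub, DirectSum.sub_apply, AddSubgroupClass.coe_sub,
        decompose_of_mem_same ℳ hm, decompose_smul (hf j)] at h
      exact h
    let b : ι → M := fun i => a i - f i ^ k • p'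
    have hb : ∀ i, ∃ L, f i ^ L • (f j • b i) ∈ Q := fun i => by
      obtain ⟨L, hL'⟩ := hL i
      refine ⟨L, ?_⟩
      have h := sub_mem (Q.smul_mem (f i ^ L) (Q.smul_mem (f i ^ k) hdiff)) hL'
      convert h using 1
      simp only [b]
      rw [← smul_sub, smul_sub (f i ^ k), smul_sub (f j), smul_comm (f j) (f i ^ k)]
      congr 1
      abel
    choose Lb hLb using hb
    let L := Finset.univ.sup Lb
    have hLb' : ∀ i, f i ^ L • (f j • b i) ∈ Q := fun i => by
      obtain ⟨e, he⟩ := Nat.exists_eq_add_of_le (Finset.le_sup (f := Lb) (Finset.mem_univ i))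
      rw [show L = e + Lb i by simp only [L]; omega, pow_add, mul_smul]
      exact Q.smul_mem _ (hLb i)
    have hbmem : ∀ i, f i ^ L • b i ∈ ℳ ((L + k) * d i + n) ∧ f i ^ L • b i ∈ kerI P Q (f j) := fun i => by
      constructor
      · rw [show (L + k) * d i + n = L * d i + (k * d i + n) by ring]
        exact smul_mem (pow_mem hf i L) (sub_mem (ha i).1 (smul_mem (pow_mem hf i k) hp'))
      · refine ⟨P.smul_mem _ (sub_mem (ha i).2 (P.smul_mem _ (hP n p hp))), ?_⟩
        show f j • f i ^ L • b i ∈ Q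
        rw [smul_comm]
        exact hLb' i
    have hbc : Compat f Q (L + k) (fun i => f i ^ L • b i) := by
      intro i i'
      obtain ⟨Lc, hLc⟩ := hc i i'
      refine ⟨Lc, ?_⟩
      convert Q.smul_mem ((f i * f i') ^ L) hLc using 1
      simp only [b, smul_sub, ← mul_smul]
      rw [show (f i * f i') ^ Lc * (f i' ^ (L + k) * (f i ^ L * f i ^ k)) =
        (f i * f i') ^ Lc * (f i ^ (L + k) * (f i' ^ L * f i' ^ k)) by ring]
      rw [sub_sub_sub_cancel_right]
      congr 2 <;> ring
    obtain ⟨m', hm', hm'P, hL2⟩ := (h₁ n (by omega)).2 (L + k) (fun i => f i ^ L • b i) hbmem hbc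
    refine ⟨p' + m', add_mem hp' hm', add_mem (hP n p hp) hm'P.1, fun i => ?_⟩
    obtain ⟨M', hM'⟩ := hL2 i
    refine ⟨M' + L, ?_⟩
    convert hM' using 1
    simp only [b]
    rw [pow_add, mul_smul, pow_add, mul_smul, ← smul_sub]
    congr 2
    rw [smul_add]
    abel
  -- descend along powers of `f j`
  have hdesc : ∀ (L n : ℕ), N₁ + N₂ ≤ n → ∀ (k : ℕ) (a : ι → M), (∀ i, a i ∈ ℳ (k * d i + n) ∧ a i ∈ P) →
      Compat f Q k a → Glues f ℳ P Q (L * d j + n) k (fun i => f j ^ L • a i) → Glues f ℳ P Q n k a := by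
    intro L
    induction L with
    | zero => intro n _ k a _ _ h; simpa using h
    | succ L ih =>
      intro n hn k a ha hc h
      refine hstep n hn k a ha hc (ih (d j + n) (by omega) k (fun i => f j • a i) (fun i => ⟨?_, P.smul_mem _ (ha i).2⟩) ?_ ?_)
      · rw [show k * d i + (d j + n) = d j + (k * d i + n) by ring]
        exact smul_mem (hf j) (ha i).1
      · intro i i'
        obtain ⟨Lc, hLc⟩ := hc i i'
        refine ⟨Lc, ?_⟩
        convert Q.smul_mem (f j) hLc using 1
        simp only [smul_sub, ← mul_smul]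
        congr 2 <;> ring
      · rw [show L * d j + (d j + n) = (L + 1) * d j + n by ring]
        simpa only [pow_succ, mul_smul] using h
  choose Lc hLc using hc j
  let K := Finset.univ.sup Lc
  refine hdesc (K + k) n hn k a ha hc ⟨f j ^ K • a j, ?_, P.smul_mem _ (ha j).2, fun i => ⟨K, ?_⟩⟩
  · rw [show (K + k) * d j + n = K * d j + (k * d j + n) by ring]
    exact smul_mem (pow_mem hf j K) (ha j).1
  · obtain ⟨e, he⟩ := Nat.exists_eq_add_of_le (Finset.le_sup (f := Lc) (Finset.mem_univ i))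
    have h := Q.smul_mem ((f j * f i) ^ e) (hLc i)
    have he' : K = Lc i + e := he
    convert h using 1
    simp only [smul_sub, ← mul_smul]
    congr 2 <;> (rw [he']; ring)

theorem exists_good [Finite ι] [IsNoetherianRing A]
    (hirr : (HomogeneousIdeal.irrelevant 𝒜).toIdeal ≤ Ideal.span (Set.range f))
    {P Q : Submodule A M} (hP : Homg ℳ P) (hQ : Homg ℳ Q) (hfg : P.FG) : Good f d ℳ P Q := by
  classical
  cases nonempty_fintype ι
  generalize hn : (Finset.univ.filter fun j => ¬ ∀ v ∈ P, f j • v ∈ Q).card = n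
  induction n using Nat.strong_induction_on generalizing P Q with
  | _ n ih =>
    by_cases hall : ∀ j, ∀ v ∈ P, f j • v ∈ Q
    · exact good_of_killed hf hP hQ hfg hirr hall
    push Not at hall
    obtain ⟨j, hj⟩ := hall
    have hlt : ∀ P' Q' : Submodule A M, (∀ i, (∀ v ∈ P, f i • v ∈ Q) → ∀ v ∈ P', f i • v ∈ Q') →
        (∀ v ∈ P', f j • v ∈ Q') →
        (Finset.univ.filter fun i => ¬ ∀ v ∈ P', f i • v ∈ Q').card < n := by
      intro P' Q' h₁ h₂
      subst hn
      refine Finset.card_lt_card ⟨fun i hi => ?_, fun h => ?_⟩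
      · simp only [Finset.mem_filter, Finset.mem_univ, true_and] at hi ⊢
        exact fun h => hi (h₁ i h)
      · have := h (show j ∈ _ by simp only [Finset.mem_filter, Finset.mem_univ, true_and]; push Not; exact hj)
        simp only [Finset.mem_filter, Finset.mem_univ, true_and] at this
        exact this h₂
    haveI : Module.Finite A P := Module.Finite.iff_fg.2 hfg
    haveI := isNoetherian_of_isNoetherianRing_of_finite A P
    have hfg' : (kerI P Q (f j)).FG := by
      have h : kerI P Q (f j) ≤ P := inf_le_left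
      rw [← Submodule.map_comap_eq_of_le (f := P.subtype) (p := kerI P Q (f j)) (by rwa [Submodule.range_subtype])]
      exact (IsNoetherian.noetherian _).map _
    refine good_step hf hP hQ j ?_ ?_
    · exact ih _ (hlt (kerI P Q (f j)) Q (fun i hi v hv => hi v hv.1) fun v hv => hv.2)
        (homg_kerI hP hQ (hf j)) hQ hfg' rfl
    · exact ih _ (hlt P (imI P Q (f j)) (fun i hi v hv => (le_sup_right : Q ≤ imI P Q (f j)) (hi v hv))
        fun v hv => mem_imI.2 ⟨v, hv, 0, zero_mem _, add_zero _⟩) hP (homg_imI hP hQ (hf j)) hfg rfl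

end GrothLib.GrAlpha9
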