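import Groth.Agent.Lib.GrAlpha9.Main

/-!
# Sections of twists are generated by the degree-one elements in large degrees
-/

universe u

set_option autoImplicit false
set_option backward.isDefEq.respectTransparency false

open AlgebraicGeometry CategoryTheory TopologicalSpace Opposite DirectSum

noncomputable section

namespace GrothLib.GrAlpha9

variable {A σ : Type u} [CommRing A] [SetLike σ A] [AddSubgroupClass σ A] (𝒜 : ℕ → σ) [GradedRing 𝒜]
variable {M τ : Type u} [AddCommGroup M] [Module A M] [SetLike τ M] [AddSubgroupClass τ M] (ℳ : ℕ → τ)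

/-- Sums of products of elements of degrees `i` and `j`. -/
def prodGrp (i j : ℕ) : AddSubgroup A := AddSubgroup.closure {z | ∃ a ∈ 𝒜 i, ∃ b ∈ 𝒜 j, a * b = z}

variable {𝒜} in
theorem mem_prodGrp_one (hgen : (HomogeneousIdeal.irrelevant 𝒜).toIdeal = Ideal.span (𝒜 1 : Set A))
    {j : ℕ} {b : A} (hb : b ∈ 𝒜 (j + 1)) : b ∈ prodGrp 𝒜 1 j := by
  classical
  have hb' : b ∈ Ideal.span (𝒜 1 : Set A) :=
    hgen ▸ (HomogeneousIdeal.mem_irrelevant_of_mem 𝒜 j.succ_pos hb : b ∈ (HomogeneousIdeal.irrelevant 𝒜).toIdeal)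
  obtain ⟨c, hc, hsum⟩ := Submodule.mem_span_set.1 hb'
  rw [← decompose_of_mem_same 𝒜 hb, ← hsum, Finsupp.sum, decompose_sum, DFinsupp.finsetSum_apply,
    AddSubmonoidClass.coe_finsetSum]
  refine sum_mem fun x hx => ?_
  rw [smul_eq_mul, coe_decompose_mul_of_right_mem_of_le 𝒜 (hc hx) (Nat.le_add_left 1 j), Nat.add_sub_cancel,
    mul_comm]
  exact AddSubgroup.subset_closure ⟨x, hc hx, _, SetLike.coe_mem _, rfl⟩

variable {𝒜} in
theorem mem_prodGrp (hgen : (HomogeneousIdeal.irrelevant 𝒜).toIdeal = Ideal.span (𝒜 1 : Set A)) :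
    ∀ i j : ℕ, ∀ a ∈ 𝒜 (i + j), a ∈ prodGrp 𝒜 i j := by
  intro i
  induction i with
  | zero =>
    intro j a ha
    exact AddSubgroup.subset_closure ⟨1, SetLike.GradedOne.one_mem, a, by simpa using ha, one_mul a⟩
  | succ i ih =>
    intro j a ha
    have h := ih (j + 1) a (by rwa [show i + (j + 1) = i + 1 + j by ring])
    refine AddSubgroup.closure_induction (fun z hz => ?_) (zero_mem _) (fun _ _ _ _ => add_mem)
      (fun _ _ => neg_mem) h
    obtain ⟨p, hp, q, hq, rfl⟩ := hz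
    refine AddSubgroup.closure_induction (p := fun q _ => p * q ∈ prodGrp 𝒜 (i + 1) j) (fun z hz => ?_)
      (by rw [mul_zero]; exact zero_mem _) (fun _ _ _ _ h h' => by rw [mul_add]; exact add_mem h h')
      (fun _ _ h => by rw [mul_neg]; exact neg_mem h) (mem_prodGrp_one hgen hq)
    obtain ⟨x, hx, y, hy, rfl⟩ := hz
    exact AddSubgroup.subset_closure ⟨p * x, SetLike.mul_mem_graded hp hx, y, hy, mul_assoc p x y⟩

variable [SetLike.GradedSMul 𝒜 ℳ] [DirectSum.Decomposition ℳ]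

theorem decompose_smul_right {q : ℕ} {m : M} (hm : m ∈ ℳ q) (c : A) {p : ℕ} (hp : q ≤ p) :
    ((decompose ℳ (c • m) p : ℳ p) : M) = ((decompose 𝒜 c (p - q) : 𝒜 (p - q)) : A) • m := by
  classical
  refine DirectSum.Decomposition.inductionOn 𝒜 (motive := fun c : A =>
    ((decompose ℳ (c • m) p : ℳ p) : M) = ((decompose 𝒜 c (p - q) : 𝒜 (p - q)) : A) • m) ?_ ?_ ?_ c
  · simp
  · intro l w
    rcases eq_or_ne l (p - q) with rfl | hl
    · have h : (w : A) • m ∈ ℳ p := by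
        have := GrAlpha9.smul_mem w.2 hm
        rwa [Nat.sub_add_cancel hp] at this
      rw [decompose_of_mem_same ℳ h, decompose_of_mem_same 𝒜 w.2]
    · rw [decompose_of_mem_ne 𝒜 w.2 hl, zero_smul, decompose_of_mem_ne ℳ (GrAlpha9.smul_mem w.2 hm) (by omega)]
  · intro x y hx hy
    rw [add_smul, decompose_add, decompose_add, DirectSum.add_apply, DirectSum.add_apply,
      AddMemClass.coe_add, AddMemClass.coe_add, hx, hy, add_smul]

/-- In large degrees a graded module with finitely generated tail is generated by the previous degree. -/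
theorem exists_generated (hgen : (HomogeneousIdeal.irrelevant 𝒜).toIdeal = Ideal.span (𝒜 1 : Set A))
    (hTF : ∃ k : ℕ, (Submodule.span A (⋃ i ∈ Set.Ici k, (ℳ i : Set M))).FG) :
    ∃ K : ℕ, ∀ k e : ℕ, K ≤ k → ∀ v ∈ ℳ (k + e),
      v ∈ AddSubgroup.closure {z | ∃ a ∈ 𝒜 e, ∃ m ∈ ℳ k, a • m = z} := by
  classical
  obtain ⟨k₀, hfg⟩ := hTF
  obtain ⟨T, hT, hspan⟩ := (Submodule.fg_span_iff_fg_span_finset_subset _).mp hfg
  choose q hq hmem using fun t : T => Set.mem_iUnion₂.mp (hT t.2)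
  refine ⟨max k₀ (Finset.univ.sup q), fun k e hk v hv => ?_⟩
  have hv' : v ∈ Submodule.span A (T : Set M) := hspan.le (Submodule.subset_span (Set.mem_iUnion₂.2
    ⟨k + e, Set.mem_Ici.2 (by omega), hv⟩))
  obtain ⟨c, hc, hsum⟩ := Submodule.mem_span_set.1 hv'
  rw [← decompose_of_mem_same ℳ hv, ← hsum, Finsupp.sum, decompose_sum, DFinsupp.finsetSum_apply,
    AddSubmonoidClass.coe_finsetSum]
  refine sum_mem fun x hx => ?_
  have hqk : q ⟨x, hc hx⟩ ≤ k := le_trans ((Finset.le_sup (Finset.mem_univ _)).trans (le_max_right k₀ _)) hk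
  have hm : x ∈ ℳ (q ⟨x, hc hx⟩) := hmem ⟨x, hc hx⟩
  rw [decompose_smul_right 𝒜 ℳ hm (c x) (hqk.trans (Nat.le_add_right k e))]
  generalize hd : k + e - q ⟨x, hc hx⟩ = d
  have hwmem : ((decompose 𝒜 (c x) d : 𝒜 d) : A) ∈ 𝒜 (e + (k - q ⟨x, hc hx⟩)) := by
    rw [show e + (k - q ⟨x, hc hx⟩) = d by omega]
    exact SetLike.coe_mem _
  refine AddSubgroup.closure_induction (p := fun a _ => a • x ∈ AddSubgroup.closure _) (fun z hz => ?_)
    (by rw [zero_smul]; exact zero_mem _) (fun _ _ _ _ h h' => by rw [add_smul]; exact add_mem h h')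
    (fun _ _ h => by rw [neg_smul]; exact neg_mem h) (mem_prodGrp hgen e _ _ hwmem)
  obtain ⟨a, ha, b, hb, rfl⟩ := hz
  refine AddSubgroup.subset_closure ⟨a, ha, b • x, ?_, (mul_smul a b x).symm⟩
  have := GrAlpha9.smul_mem hb hm
  rwa [Nat.sub_add_cancel hqk] at this

theorem exists_value {n : ℕ} (hN : Function.Surjective (_root_.GrMod.alpha 𝒜 ℳ n)) {z : ℤ} (hz : z = (n : ℤ))
    (s : _root_.GrMod.sect 𝒜 ℳ z (op (⊤ : Opens (ProjectiveSpectrum.top 𝒜)))) :
    ∃ v : M, v ∈ ℳ n ∧ ∀ y, (s.1 y).1 = LocalizedModule.mk v (1 : y.1.asHomogeneousIdeal.toIdeal.primeCompl) := by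
  subst hz
  obtain ⟨⟨v, hv⟩, hvs⟩ := hN s
  exact ⟨v, hv, fun y => by rw [← hvs]; rfl⟩

theorem exists_sum_value (k e : ℕ) {z : M}
    (hz : z ∈ AddSubgroup.closure {z | ∃ a ∈ 𝒜 e, ∃ m ∈ ℳ k, a • m = z}) :
    ∃ t ∈ (⨆ a : 𝒜 e, (_root_.GrMod.smulSect 𝒜 ℳ a (k : ℤ)
        (op (⊤ : Opens (ProjectiveSpectrum.top 𝒜)))).range),
      ∀ y, (t.1 y).1 = LocalizedModule.mk z (1 : y.1.asHomogeneousIdeal.toIdeal.primeCompl) := by
  induction hz using AddSubgroup.closure_induction with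
  | mem z hz =>
    obtain ⟨a, ha, m, hm, rfl⟩ := hz
    refine ⟨_, AddSubgroup.mem_iSup_of_mem ⟨a, ha⟩ ⟨_root_.GrMod.globalOf 𝒜 ℳ ⟨m, hm⟩, rfl⟩, fun y => ?_⟩
    rw [_root_.GrMod.smulSect_apply_coe, _root_.GrMod.globalOf_apply_coe, LocalizedModule.mk_smul_mk, one_mul]
  | zero => exact ⟨0, zero_mem _, fun y => (LocalizedModule.zero_mk _).symm⟩
  | add z z' _ _ h h' =>
    obtain ⟨t, ht, h⟩ := h
    obtain ⟨t', ht', h'⟩ := h'
    exact ⟨t + t', add_mem ht ht', fun y => (congrArg₂ (· + ·) (h y) (h' y)).trans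
      ((LocalizedModule.mkLinearMap _ M).map_add z z').symm⟩
  | neg z _ h =>
    obtain ⟨t, ht, h⟩ := h
    exact ⟨-t, neg_mem ht, fun y => (congrArg Neg.neg (h y)).trans
      ((LocalizedModule.mkLinearMap _ M).map_neg z).symm⟩

set_option maxHeartbeats 2000000 in
/-- The sections in degree `k + e` are generated by the degree-`e` elements from degree `k`. -/
theorem exists_sections_generated [IsNoetherianRing A]
    (hgen : (HomogeneousIdeal.irrelevant 𝒜).toIdeal = Ideal.span (𝒜 1 : Set A))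
    (hTF : ∃ k : ℕ, (Submodule.span A (⋃ i ∈ Set.Ici k, (ℳ i : Set M))).FG) :
    ∃ k : ℕ, ∀ e : ℕ, (⨆ a : 𝒜 e, (_root_.GrMod.smulSect 𝒜 ℳ a (k : ℤ)
      (op (⊤ : Opens (ProjectiveSpectrum.top 𝒜)))).range) = ⊤ := by
  obtain ⟨N, hN⟩ := eventually_bijective 𝒜 ℳ hTF
  obtain ⟨K, hK⟩ := exists_generated 𝒜 ℳ hgen hTF
  obtain ⟨k, hk₁, hk₂⟩ : ∃ k, N ≤ k ∧ K ≤ k := ⟨max N K, le_max_left _ _, le_max_right _ _⟩
  refine ⟨k, fun e => eq_top_iff.2 fun s _ => ?_⟩
  obtain ⟨v, hv, hvs⟩ := exists_value 𝒜 ℳ (hN (k + e) (hk₁.trans (Nat.le_add_right _ e))).2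
    (Nat.cast_add k e).symm s
  obtain ⟨t, ht, htv⟩ := exists_sum_value 𝒜 ℳ k e (hK k e hk₂ v hv)
  have : t = s := Subtype.ext (funext fun y => Subtype.ext ((htv y).trans (hvs y).symm))
  exact this ▸ ht

end GrothLib.GrAlpha9
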