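import Groth.Agent.Lib.GrAlpha9.Main
import Groth.Agent.Lib.RelTilde8.Comap

/-!
# Good degrees pass to localizations at degree zero
-/

universe u

set_option autoImplicit false
set_option backward.isDefEq.respectTransparency false

open AlgebraicGeometry DirectSum
open scoped HomogeneousIdeal

noncomputable section

namespace GrothLib.GrAlpha9

variable {A σ : Type u} [CommRing A] [SetLike σ A] [AddSubgroupClass σ A] {𝒜 : ℕ → σ} [GradedRing 𝒜]
variable {M τ : Type u} [AddCommGroup M] [Module A M] [SetLike τ M] [AddSubgroupClass τ M] {ℳ : ℕ → τ}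
  [SetLike.GradedSMul 𝒜 ℳ] [DirectSum.Decomposition ℳ]
variable {B σ' : Type u} [CommRing B] [SetLike σ' B] [AddSubgroupClass σ' B] {ℬ : ℕ → σ'} [GradedRing ℬ]
variable {N τ' : Type u} [AddCommGroup N] [Module B N] [SetLike τ' N] [AddSubgroupClass τ' N] {𝒩 : ℕ → τ'}
  [SetLike.GradedSMul ℬ 𝒩] [DirectSum.Decomposition 𝒩]
variable (ψ : 𝒜 →+*ᵍ ℬ) (v : M →ₛₗ[ψ.toRingHom] N) (hv : ∀ (i : ℕ) (m : M), m ∈ ℳ i → v m ∈ 𝒩 i)

include hv in
theorem goodAt_of_localization {c : A} (hc : c ∈ 𝒜 0) (hu : IsUnit (ψ c))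
    (hsurj : ∀ m' : N, ∃ (k : ℕ) (m : M), v m = ψ c ^ k • m') (hinj : ∀ m : M, v m = 0 → ∃ k : ℕ, c ^ k • m = 0)
    {ι : Type*} [Finite ι] {f : ι → A} {d : ι → ℕ} (hf : ∀ i, f i ∈ 𝒜 (d i)) {n : ℕ}
    (h : GoodAt f d ℳ (⊤ : Submodule A M) ⊥ n) :
    GoodAt (fun i => ψ (f i)) d 𝒩 (⊤ : Submodule B N) ⊥ n := by
  classical
  cases nonempty_fintype ι
  have hvs : ∀ (a : A) (m : M), v (a • m) = ψ a • v m := fun a m => LinearMap.map_smulₛₗ v a m
  have hck : ∀ k, c ^ k ∈ 𝒜 0 := fun k => by simpa using SetLike.pow_mem_graded k hc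
  have hlift : ∀ (p : ℕ) (m' : N), m' ∈ 𝒩 p → ∃ (k : ℕ) (m : M), m ∈ ℳ p ∧ v m = ψ c ^ k • m' := by
    intro p m' hm'
    obtain ⟨k, m, hm⟩ := hsurj m'
    refine ⟨k, (decompose ℳ m p : M), SetLike.coe_mem _, ?_⟩
    rw [RelTilde8.map_decompose ψ v hv, hm]
    have h0 := GrAlpha9.smul_mem (ℳ := 𝒩) (ψ.map_mem (hck k)) hm'
    rw [zero_add, map_pow] at h0
    exact decompose_of_mem_same 𝒩 h0
  have hkey : ∀ j, ψ c ^ j ∈ ℬ 0 := fun j => by rw [← map_pow]; exact ψ.map_mem (hck j)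
  have hcancel : ∀ (k : ℕ) (m' : N), ψ c ^ k • m' = 0 → m' = 0 := fun k m' hm' => (hu.pow k).smul_eq_zero.1 hm'
  refine ⟨fun m' hm' _ ht => ?_, fun K b hb hcompat => ?_⟩
  · obtain ⟨k, m, hm, hvm⟩ := hlift n m' hm'
    choose L hL using ht
    have h1 : ∀ i, ∃ e, c ^ e • (f i ^ L i • m) = 0 := fun i => hinj _ (by
      rw [hvs, map_pow, hvm, smul_comm, (Submodule.mem_bot B).1 (hL i), smul_zero])
    choose e he using h1
    let E := Finset.univ.sup e
    have hE : c ^ E • m = 0 := (Submodule.mem_bot A).1 (h.1 _ (by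
      have := GrAlpha9.smul_mem (hck E) hm; rwa [zero_add] at this) trivial fun i => ⟨L i, (Submodule.mem_bot A).2 (by
        obtain ⟨g, hg⟩ := Nat.exists_eq_add_of_le (Finset.le_sup (f := e) (Finset.mem_univ i))
        rw [show E = g + e i by simp only [E]; omega, pow_add, mul_smul, smul_comm (f i ^ L i),
          smul_comm (f i ^ L i) (c ^ e i), he, smul_zero])⟩)
    refine (Submodule.mem_bot B).2 (hcancel (E + k) m' ?_)
    rw [pow_add, mul_smul, ← hvm, ← map_pow, ← hvs, hE, map_zero]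
  · choose k a ha hva using fun i => hlift _ (b i) (hb i).1
    let E := Finset.univ.sup k
    let a' : ι → M := fun i => c ^ (E - k i) • a i
    have hva' : ∀ i, v (a' i) = ψ c ^ E • b i := fun i => by
      simp only [a']
      rw [hvs, map_pow, hva, smul_smul, ← pow_add, Nat.sub_add_cancel (Finset.le_sup (Finset.mem_univ i))]
    choose L hL using hcompat
    have h1 : ∀ p : ι × ι, ∃ e, c ^ e • ((f p.1 * f p.2) ^ L p.1 p.2 • (f p.2 ^ K • a' p.1 - f p.1 ^ K • a' p.2)) = 0 :=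
      fun p => hinj _ (by
        rw [hvs, map_sub, hvs (f p.2 ^ K) (a' p.1), hvs (f p.1 ^ K) (a' p.2), hva', hva', map_pow, map_mul, map_pow,
          map_pow, smul_comm (ψ (f p.2) ^ K),
          smul_comm (ψ (f p.1) ^ K), ← smul_sub, smul_comm, (Submodule.mem_bot B).1 (hL p.1 p.2), smul_zero])
    choose e he using h1
    let E' := Finset.univ.sup e
    obtain ⟨m, hm, -, hmL⟩ := h.2 K (fun i => c ^ E' • a' i) (fun i => ⟨by
      have := GrAlpha9.smul_mem (hck E') (GrAlpha9.smul_mem (hck (E - k i)) (ha i))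
      simpa using this, trivial⟩) fun i j => ⟨L i j, (Submodule.mem_bot A).2 (by
        obtain ⟨g, hg⟩ := Nat.exists_eq_add_of_le (Finset.le_sup (f := e) (Finset.mem_univ (i, j)))
        rw [show E' = g + e (i, j) by simp only [E']; omega, smul_comm (f j ^ K) (c ^ (g + e (i, j))),
          smul_comm (f i ^ K) (c ^ (g + e (i, j))), ← smul_sub, smul_comm, pow_add, mul_smul, he (i, j), smul_zero])⟩
    obtain ⟨w, hw⟩ := hu.pow (E' + E)
    refine ⟨(↑w⁻¹ : B) • v m, ?_, trivial, fun i => ?_⟩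
    · obtain ⟨k', m₀, hm₀, hv₀⟩ : ∃ (k' : ℕ) (m₀ : N), m₀ ∈ 𝒩 n ∧ (↑w⁻¹ : B) • v m = m₀ := by
        refine ⟨0, (decompose 𝒩 ((↑w⁻¹ : B) • v m) n : N), SetLike.coe_mem _, ?_⟩
        have h1 : ψ c ^ (E' + E) • (decompose 𝒩 ((↑w⁻¹ : B) • v m) n : N) = v m := by
          have h2 := decompose_smul (ℳ := 𝒩) (hkey (E' + E)) ((↑w⁻¹ : B) • v m) n
          rw [zero_add, ← hw, smul_smul, Units.mul_inv, one_smul, decompose_of_mem_same 𝒩 (hv n m hm)] at h2
          rw [← hw]; exact h2.symm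
        rw [← hw] at h1
        calc (↑w⁻¹ : B) • v m = (↑w⁻¹ : B) • ((w : B) • (decompose 𝒩 ((↑w⁻¹ : B) • v m) n : N)) := by rw [h1]
          _ = _ := by rw [smul_smul, Units.inv_mul, one_smul]
      rw [hv₀]; exact hm₀
    · obtain ⟨L', hL'⟩ := hmL i
      refine ⟨L', (Submodule.mem_bot B).2 ?_⟩
      have h2 := congrArg v ((Submodule.mem_bot A).1 hL')
      rw [hvs, map_sub, hvs (f i ^ K) m, hvs (c ^ E') (a' i), hva', map_zero, map_pow, map_pow, map_pow, smul_smul (ψ c ^ E'), ← pow_add, ← hw] at h2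
      have h3 := congrArg ((↑w⁻¹ : B) • ·) h2
      simp only [smul_zero] at h3
      rw [smul_comm, smul_sub, smul_comm (↑w⁻¹ : B) (ψ (f i) ^ K), smul_smul (↑w⁻¹ : B) (↑w : B), Units.inv_mul, one_smul] at h3
      exact h3

end GrothLib.GrAlpha9
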