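import Groth.Agent.Lib.GrAlpha9.Localize
import Groth.Agent.Lib.RelTilde8.Rel

/-!
# `α` is bijective in large degrees uniformly over a Noetherian base
-/

universe u

set_option autoImplicit false
set_option backward.isDefEq.respectTransparency false

open AlgebraicGeometry CategoryTheory TopologicalSpace Opposite DirectSum
open GrothLib.InvExt (mres)
open GrothLib.RelProjK (dg rs rs_irr rs_comp)
open GrothLib.RelTilde8 (evM evM_ext mrs mrs_mem mrs_comp)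
open scoped HomogeneousIdeal

noncomputable section

namespace GrothLib.GrAlpha9

variable {Y : Scheme.{u}} {𝒮 : RelProj.QCGrAlg Y} (ℳ : RelProj.GrModule 𝒮)

/-- `α` over one affine open. -/
abbrev al (U : Y.AffineZariskiSite) (n : ℕ) := _root_.GrMod.alpha (dg 𝒮 U) (ℳ.deg U.1 U.2) n

variable (hℳ : Coh.IsQCoh ((AMod.toOS 𝒮.toQCAlg).obj ℳ.mod))
include hℳ

/-- The localization with its element named. -/
theorem mrs_loc (U : Y.AffineZariskiSite) (r : Γ(Y, U.1)) :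
    (∀ m' : ℳ.mod.val.obj (op (U.basicOpen r).1), ∃ (k : ℕ) (m : ℳ.mod.val.obj (op U.1)),
      mrs ℳ (U.basicOpen_le r) m = rs 𝒮 (U.basicOpen_le r) ((𝒮.str.app (op U.1)).hom r) ^ k • m') ∧
    (∀ m : ℳ.mod.val.obj (op U.1), mrs ℳ (U.basicOpen_le r) m = 0 →
      ∃ k : ℕ, (𝒮.str.app (op U.1)).hom r ^ k • m = 0) ∧
    IsUnit (rs 𝒮 (U.basicOpen_le r) ((𝒮.str.app (op U.1)).hom r)) := by
  haveI : ((AMod.toOS 𝒮.toQCAlg).obj ℳ.mod).IsQuasicoherent := hℳ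
  obtain ⟨hl, hs⟩ := QCoh.smulLift_and_smulSep_of_isAffineOpen U.2 ((AMod.toOS 𝒮.toQCAlg).obj ℳ.mod) r
  refine ⟨fun m' => ?_, fun m hm => ?_, ?_⟩
  · obtain ⟨k, t, ht⟩ := hl m'
    refine ⟨k, t, ht.trans ?_⟩
    refine congrArg (fun a : 𝒮.presheaf.obj (op (Y.basicOpen r)) => a • m') ?_
    show (𝒮.str.app _).hom ((Y.presheaf.map _).hom r ^ k) = (𝒮.presheaf.map _).hom ((𝒮.str.app (op U.1)).hom r) ^ k
    rw [map_pow]
    exact congrArg (· ^ k) (ConcreteCategory.congr_hom (𝒮.str.naturality (homOfLE (Y.basicOpen_le r)).op) r)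
  · obtain ⟨k, hk⟩ := hs m hm
    refine ⟨k, ?_⟩
    rw [← map_pow]
    exact hk
  · letI := (rs 𝒮 (U.basicOpen_le r)).toRingHom.toAlgebra
    haveI : IsLocalization.Away ((𝒮.str.app (op U.1)).hom r) (𝒮.presheaf.obj (op (U.basicOpen r).1)) := 𝒮.isQC U.1 U.2 r
    exact IsLocalization.Away.algebraMap_isUnit ((𝒮.str.app (op U.1)).hom r)

theorem bijective_al_of_le {U V : Y.AffineZariskiSite} (h : V ≤ U) {s : ℕ} {f : Fin s → 𝒮.presheaf.obj (op U.1)}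
    {d : Fin s → ℕ} (hd : ∀ i, 0 < d i) (hf : ∀ i, f i ∈ dg 𝒮 U (d i))
    (hirr : (HomogeneousIdeal.irrelevant (dg 𝒮 U)).toIdeal ≤ Ideal.span (Set.range f)) {n : ℕ}
    (hgood : GoodAt f d (ℳ.deg U.1 U.2) (⊤ : Submodule (𝒮.presheaf.obj (op U.1)) (ℳ.mod.val.obj (op U.1))) ⊥ n) :
    Function.Bijective (al ℳ V n) := by
  obtain ⟨V, hV⟩ := V
  obtain ⟨r, hr⟩ := id h
  obtain rfl : Y.basicOpen r = V := hr
  obtain ⟨hl, hs, hu⟩ := mrs_loc ℳ hℳ U r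
  have hg := goodAt_of_localization (rs 𝒮 (U.basicOpen_le r)) (mrs ℳ (U.basicOpen_le r))
    (mrs_mem ℳ (U.basicOpen_le r)) (𝒮.str_mem U.1 U.2 r) hu hl hs hf hgood
  refine bijective_alpha_of_goodAt (dg 𝒮 (U.basicOpen r)) (ℳ.deg (U.basicOpen r).1 (U.basicOpen r).2) hd
    (fun i => (rs 𝒮 (U.basicOpen_le r)).map_mem (hf i)) ?_ hg
  refine le_trans (b := ((dg 𝒮 U)₊.map (rs 𝒮 (U.basicOpen_le r))).toIdeal) (rs_irr 𝒮 (U.basicOpen_le r)) ?_
  refine (Ideal.map_mono hirr).trans ?_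
  rw [Ideal.map_span]
  refine Ideal.span_mono ?_
  rintro _ ⟨_, ⟨i, rfl⟩, rfl⟩
  exact ⟨i, rfl⟩

theorem exists_notMem_str (U : Y.AffineZariskiSite) (Q : Γ(Y, U.1) → Prop)
    (hQ : ∀ s ∈ U.1, ∃ r, Q r ∧ s ∈ Y.basicOpen r) (x : ProjectiveSpectrum (dg 𝒮 U)) :
    ∃ r, Q r ∧ (𝒮.str.app (op U.1)).hom r ∉ x.asHomogeneousIdeal := by
  by_contra hc
  simp only [not_exists, not_and, not_not] at hc
  have hspan : Ideal.span {r | Q r} = ⊤ := by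
    rw [← U.2.iSup_basicOpen_eq_self_iff]
    refine le_antisymm (iSup_le fun r => Y.basicOpen_le r.1) fun s hs => ?_
    obtain ⟨r, hr, hsr⟩ := hQ s hs
    exact Opens.mem_iSup.2 ⟨⟨r, hr⟩, hsr⟩
  have : Ideal.span {r | Q r} ≤ x.asHomogeneousIdeal.toIdeal.comap (𝒮.str.app (op U.1)).hom :=
    Ideal.span_le.2 fun r hr => hc r hr
  rw [hspan] at this
  exact x.isPrime.ne_top ((Ideal.eq_top_iff_one _).2 (map_one (𝒮.str.app (op U.1)).hom ▸ this (Submodule.mem_top (x := (1 : Γ(Y, U.1))))))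

set_option maxHeartbeats 1000000 in
/-- Bijectivity is local on the base. -/
theorem bijective_al_of_cover (U : Y.AffineZariskiSite) {n : ℕ} (Good : Y.AffineZariskiSite → Prop)
    (hdown : ∀ V W, Good V → W ≤ V → Good W) (hbij : ∀ V, Good V → Function.Bijective (al ℳ V n))
    (hcov : ∀ s ∈ U.1, ∃ r : Γ(Y, U.1), Good (U.basicOpen r) ∧ s ∈ Y.basicOpen r) :
    Function.Bijective (al ℳ U n) := by
  classical
  let I := {r : Γ(Y, U.1) // Good (U.basicOpen r)}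
  let F : Y.Modules := (AMod.toOS 𝒮.toQCAlg).obj ℳ.mod
  have hle : ∀ i : I, Y.basicOpen i.1 ≤ U.1 := fun i => Y.basicOpen_le i.1
  have hsup : U.1 ≤ ⨆ i : I, Y.basicOpen i.1 := fun s hs => by
    obtain ⟨r, hr, hsr⟩ := hcov s hs
    exact Opens.mem_iSup.2 ⟨⟨r, hr⟩, hsr⟩
  have hsep : ∀ a b : ℳ.mod.val.obj (op U.1),
      (∀ i : I, mrs ℳ (U.basicOpen_le i.1) a = mrs ℳ (U.basicOpen_le i.1) b) → a = b := fun a b h =>
    TopCat.Sheaf.eq_of_locally_eq' ⟨F.presheaf, F.isSheaf⟩ (fun i : I => Y.basicOpen i.1) U.1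
      (fun i => homOfLE (hle i)) hsup a b h
  refine ⟨?_, fun t => ?_⟩
  · intro a b hab
    refine Subtype.ext (hsep _ _ fun i => ?_)
    have hh : al ℳ (U.basicOpen i.1) n ⟨mrs ℳ (U.basicOpen_le i.1) a, mrs_mem ℳ _ n _ a.2⟩ =
        al ℳ (U.basicOpen i.1) n ⟨mrs ℳ (U.basicOpen_le i.1) b, mrs_mem ℳ _ n _ b.2⟩ := by
      refine evM_ext fun y => ?_
      let x : (⊤ : (Proj (dg 𝒮 U)).Opens) := ⟨ProjectiveSpectrum.comap _ (rs_irr 𝒮 (U.basicOpen_le i.1)) y.1, trivial⟩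
      have e := congrArg (GrMod.locModMap (rs 𝒮 (U.basicOpen_le i.1)) (rs_irr 𝒮 (U.basicOpen_le i.1))
        (mrs ℳ (U.basicOpen_le i.1)) y.1) (congrArg (evM x) hab)
      have conv : ∀ c : ℳ.deg U.1 U.2 n, GrMod.locModMap (rs 𝒮 (U.basicOpen_le i.1)) (rs_irr 𝒮 (U.basicOpen_le i.1))
          (mrs ℳ (U.basicOpen_le i.1)) y.1 (evM x (al ℳ U n c)) =
          evM y (al ℳ (U.basicOpen i.1) n ⟨mrs ℳ (U.basicOpen_le i.1) c, mrs_mem ℳ _ n _ c.2⟩) := fun c => by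
        show GrMod.locModMap _ _ _ y.1 (LocalizedModule.mk (c : ℳ.mod.val.obj (op U.1)) 1) =
          LocalizedModule.mk (mrs ℳ (U.basicOpen_le i.1) c) 1
        rw [GrMod.locModMap_mk]
        refine LocalizedModule.mk_eq.2 ⟨1, ?_⟩
        simp only [one_smul, Submonoid.smul_def, OneMemClass.coe_one, map_one]
      exact (conv a).symm.trans (e.trans (conv b))
    exact congrArg Subtype.val ((hbij _ i.2).1 hh)
  let tV : ∀ r : Γ(Y, U.1), GrMod.sect (dg 𝒮 (U.basicOpen r)) (ℳ.deg (U.basicOpen r).1 (U.basicOpen r).2) (n : ℤ) (op ⊤) :=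
    fun r => GrMod.comapApp (rs 𝒮 (U.basicOpen_le r)) (rs_irr 𝒮 (U.basicOpen_le r)) (mrs ℳ (U.basicOpen_le r))
      (mrs_mem ℳ (U.basicOpen_le r)) (n : ℤ) ⊤ ⊤ (fun _ _ => trivial) t
  choose mm hmm using fun i : I => (hbij _ i.2).2 (tV i.1)
  have hval : ∀ (i : I) (W : Y.AffineZariskiSite) (hW : W ≤ U.basicOpen i.1) (z : ProjectiveSpectrum (dg 𝒮 W)),
      LocalizedModule.mk (mrs ℳ hW (mm i : ℳ.mod.val.obj (op (U.basicOpen i.1).1)))
          (1 : z.asHomogeneousIdeal.toIdeal.primeCompl) =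
        GrMod.locModMap (rs 𝒮 (hW.trans (U.basicOpen_le i.1))) (rs_irr 𝒮 (hW.trans (U.basicOpen_le i.1)))
          (mrs ℳ (hW.trans (U.basicOpen_le i.1))) z
          (evM (⟨_, trivial⟩ : (⊤ : (Proj (dg 𝒮 U)).Opens)) t) := by
    intro i W hW z
    have hU' := U.basicOpen_le i.1
    let y := ProjectiveSpectrum.comap (rs 𝒮 hW) (rs_irr 𝒮 hW) z
    let x := ProjectiveSpectrum.comap (rs 𝒮 hU') (rs_irr 𝒮 hU') y
    let x' := ProjectiveSpectrum.comap (rs 𝒮 (hW.trans hU')) (rs_irr 𝒮 (hW.trans hU')) z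
    have hx : x' = x := ProjectiveSpectrum.ext (HomogeneousIdeal.ext (SetLike.ext fun a => by
      show rs 𝒮 (hW.trans hU') a ∈ z.asHomogeneousIdeal ↔ rs 𝒮 hW (rs 𝒮 hU' a) ∈ z.asHomogeneousIdeal
      rw [rs_comp 𝒮 hU' hW a]))
    obtain ⟨W₀, hxW, iW, p, q, a, b, nin, -, hw⟩ :=
      (show GrMod.sect (dg 𝒮 U) (ℳ.deg U.1 U.2) (n : ℤ) (op ⊤) from t).2 ⟨x, trivial⟩
    have hxW' : x' ∈ W₀ := hx ▸ hxW
    have e1 : LocalizedModule.mk (mm i : ℳ.mod.val.obj (op (U.basicOpen i.1).1))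
        (1 : y.asHomogeneousIdeal.toIdeal.primeCompl) =
        GrMod.locModMap (rs 𝒮 hU') (rs_irr 𝒮 hU') (mrs ℳ hU') y
          (LocalizedModule.mk (a : ℳ.mod.val.obj (op U.1)) ⟨(b : 𝒮.presheaf.obj (op U.1)), nin ⟨x, hxW⟩⟩) :=
      (congrArg (evM (⟨y, trivial⟩ : (⊤ : (Proj (dg 𝒮 (U.basicOpen i.1))).Opens))) (hmm i)).trans
        (congrArg (GrMod.locModMap (rs 𝒮 hU') (rs_irr 𝒮 hU') (mrs ℳ hU') y) (hw ⟨x, hxW⟩))
    have e2 := congrArg (GrMod.locModMap (rs 𝒮 hW) (rs_irr 𝒮 hW) (mrs ℳ hW) z) e1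
    rw [GrMod.locModMap_mk, GrMod.locModMap_mk, GrMod.locModMap_mk] at e2
    refine Eq.trans ?_ (congrArg (GrMod.locModMap (rs 𝒮 (hW.trans hU')) (rs_irr 𝒮 (hW.trans hU'))
      (mrs ℳ (hW.trans hU')) z) (hw ⟨x', hxW'⟩)).symm
    rw [GrMod.locModMap_mk]
    refine Eq.trans ?_ (e2.trans ?_)
    · refine LocalizedModule.mk_eq.2 ⟨1, ?_⟩
      simp only [one_smul, Submonoid.smul_def, OneMemClass.coe_one, map_one]
    · refine LocalizedModule.mk_eq.2 ⟨1, ?_⟩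
      simp only [one_smul, Submonoid.smul_def, mrs_comp ℳ hU' hW, rs_comp 𝒮 hU' hW]
  have hagree : ∀ i j : I, ∀ s ∈ Y.basicOpen i.1 ⊓ Y.basicOpen j.1, ∃ (W : Y.AffineZariskiSite)
      (hi : W ≤ U.basicOpen i.1) (hj : W ≤ U.basicOpen j.1), s ∈ W.1 ∧ mrs ℳ hi (mm i).1 = mrs ℳ hj (mm j).1 := by
    intro i j s hs
    have hi : U.basicOpen (i.1 * j.1) ≤ U.basicOpen i.1 := ⟨Y.presheaf.map (homOfLE (hle i)).op j.1, by
      show Y.basicOpen _ = Y.basicOpen (i.1 * j.1)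
      erw [Y.basicOpen_res, Y.basicOpen_mul]
      rfl⟩
    have hj : U.basicOpen (i.1 * j.1) ≤ U.basicOpen j.1 := ⟨Y.presheaf.map (homOfLE (hle j)).op i.1, by
      show Y.basicOpen _ = Y.basicOpen (i.1 * j.1)
      erw [Y.basicOpen_res, Y.basicOpen_mul]
      exact inf_comm _ _⟩
    refine ⟨_, hi, hj, (Y.basicOpen_mul i.1 j.1).ge hs, congrArg Subtype.val
      (a₁ := (⟨_, mrs_mem ℳ hi n _ (mm i).2⟩ : ℳ.deg _ _ n)) (a₂ := ⟨_, mrs_mem ℳ hj n _ (mm j).2⟩) ?_⟩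
    exact (hbij _ (hdown _ _ i.2 hi)).1 (evM_ext fun z => (hval i _ hi z.1).trans (hval j _ hj z.1).symm)
  obtain ⟨m, hm, -⟩ := TopCat.Sheaf.existsUnique_gluing' ⟨F.presheaf, F.isSheaf⟩ (fun i : I => Y.basicOpen i.1) U.1
    (fun i => homOfLE (hle i)) hsup (fun i => (mm i).1) fun i j => by
      choose W hi hj hsW he using fun s : (Y.basicOpen i.1 ⊓ Y.basicOpen j.1 : Y.Opens) => hagree i j s.1 s.2
      refine TopCat.Sheaf.eq_of_locally_eq' ⟨F.presheaf, F.isSheaf⟩ (fun s => (W s).1) _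
        (fun s => homOfLE (le_inf (Scheme.AffineZariskiSite.toOpens_mono (hi s))
          (Scheme.AffineZariskiSite.toOpens_mono (hj s))))
        (fun s hs => Opens.mem_iSup.2 ⟨⟨s, hs⟩, hsW ⟨s, hs⟩⟩) _ _ fun s => ?_
      exact (ConcreteCategory.congr_hom (F.presheaf.map_comp _ _) _).symm.trans
        ((he s).trans (ConcreteCategory.congr_hom (F.presheaf.map_comp _ _) _))
  have hmn : ∀ i : I, mrs ℳ (U.basicOpen_le i.1) ((decompose (ℳ.deg U.1 U.2) m n : ℳ.deg U.1 U.2 n) : ℳ.mod.val.obj (op U.1))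
      = (mm i).1 := fun i => by
    rw [RelTilde8.map_decompose (rs 𝒮 (U.basicOpen_le i.1)) (mrs ℳ (U.basicOpen_le i.1))
      (mrs_mem ℳ (U.basicOpen_le i.1)), show mrs ℳ (U.basicOpen_le i.1) m = (mm i).1 from hm i,
      decompose_of_mem_same _ (mm i).2]
  refine ⟨decompose (ℳ.deg U.1 U.2) m n, evM_ext fun x => ?_⟩
  obtain ⟨r, hr, hrx⟩ := exists_notMem_str ℳ hℳ U (fun r => Good (U.basicOpen r)) hcov x.1
  obtain ⟨hl, hs, hu⟩ := mrs_loc ℳ hℳ U r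
  let D : (Proj (dg 𝒮 U)).Opens := Proj.basicOpen (dg 𝒮 U) ((𝒮.str.app (op U.1)).hom r)
  have hb := RelTilde8.bijective_comapApp_of_localization (rs 𝒮 (U.basicOpen_le r)) (rs_irr 𝒮 (U.basicOpen_le r))
    (mrs ℳ (U.basicOpen_le r)) (mrs_mem ℳ (U.basicOpen_le r)) (𝒮.str_mem U.1 U.2 r) hl hs (n : ℤ) D ⊤
    (fun y => ⟨fun _ hc => y.isPrime.ne_top (Ideal.eq_top_of_isUnit_mem _ hc hu), fun _ => trivial⟩) (fun z hz => hz)
  have e := hb.1 (a₁ := mres _ (le_top : D ≤ ⊤) (al ℳ U n (decompose (ℳ.deg U.1 U.2) m n)))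
    (a₂ := mres _ (le_top : D ≤ ⊤) t) (evM_ext fun z => by
      refine Eq.trans ?_ (Eq.trans (hval ⟨r, hr⟩ (U.basicOpen r) le_rfl z.1) rfl)
      show GrMod.locModMap _ _ _ z.1 (LocalizedModule.mk _ 1) = _
      rw [GrMod.locModMap_mk, hmn ⟨r, hr⟩]
      refine LocalizedModule.mk_eq.2 ⟨1, ?_⟩
      simp only [one_smul, Submonoid.smul_def, OneMemClass.coe_one, map_one]
      show (mm ⟨r, hr⟩).1 = ℳ.mod.val.presheaf.map _ (mm ⟨r, hr⟩).1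
      exact (ConcreteCategory.congr_hom (ℳ.mod.val.presheaf.map_id _) _).symm)
  exact congrArg (evM (⟨x.1, hrx⟩ : D)) e

theorem eventually_bijective_rel [IsNoetherian Y]
    (hft : ∀ (U : Y.Opens) (hU : IsAffineOpen U), (𝒮.str.app (op U)).hom.FiniteType) (hTF : ℳ.IsTF) :
    ∃ N : ℕ, ∀ n : ℕ, N ≤ n → ∀ (U : Y.Opens) (hU : IsAffineOpen U),
      Function.Bijective (GrMod.alpha (𝒮.deg U hU) (ℳ.deg U hU) n) := by
  classical
  obtain ⟨k₀, hfg⟩ := hTF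
  have hloc : ∀ A : Y.AffineZariskiSite, ∃ N, ∀ n, N ≤ n → ∀ V ≤ A, Function.Bijective (al ℳ V n) := by
    intro A
    haveI : IsNoetherianRing Γ(Y, A.1) := IsLocallyNoetherian.component_noetherian ⟨A.1, A.2⟩
    letI := (𝒮.str.app (op A.1)).hom.toAlgebra
    haveI : Algebra.FiniteType Γ(Y, A.1) (𝒮.presheaf.obj (op A.1)) := hft A.1 A.2
    haveI : IsNoetherianRing (𝒮.presheaf.obj (op A.1)) := Algebra.FiniteType.isNoetherianRing Γ(Y, A.1) _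
    obtain ⟨s, f, d, hd, hf, hirr⟩ := exists_generators_irrelevant (dg 𝒮 A)
    obtain ⟨N, hN⟩ := exists_good (ℳ := ℳ.deg A.1 A.2) hf hirr (homg_span (dg 𝒮 A) k₀) (homg_bot _) (hfg A.1 A.2)
    refine ⟨max N k₀, fun n hn V hV => bijective_al_of_le ℳ hℳ hV hd hf hirr
      (goodAt_top (fun p v hp hv => Submodule.subset_span (Set.mem_iUnion₂.2
        ⟨p, Set.mem_Ici.2 ((le_max_right _ _).trans (hn.trans hp)), hv⟩)) (hN n ((le_max_left _ _).trans hn)))⟩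
  choose N hN using hloc
  obtain ⟨S, hS⟩ := isCompact_univ.elim_finite_subcover (fun A : Y.AffineZariskiSite => (A.1 : Set Y))
    (fun A => A.1.2) (fun y _ => by
      obtain ⟨V, hV, hyV, -⟩ := exists_isAffineOpen_mem_and_subset (show y ∈ (⊤ : Y.Opens) from trivial)
      exact Set.mem_iUnion.2 ⟨⟨V, hV⟩, hyV⟩)
  refine ⟨S.sup N, fun n hn U hU => bijective_al_of_cover ℳ hℳ ⟨U, hU⟩ (fun V => ∃ A ∈ S, V ≤ A)
    (fun V W ⟨A, hA, hVA⟩ hWV => ⟨A, hA, hWV.trans hVA⟩)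
    (fun V ⟨A, hA, hVA⟩ => hN A n ((Finset.le_sup hA).trans hn) V hVA) fun y hy => ?_⟩
  obtain ⟨A, hA, hyA⟩ := Set.mem_iUnion₂.1 (hS (Set.mem_univ y))
  obtain ⟨f, g, hfg, hyf⟩ := exists_basicOpen_le_affine_inter hU A.2 y ⟨hy, hyA⟩
  exact ⟨f, ⟨A, hA, g, hfg.symm⟩, hyf⟩

end GrothLib.GrAlpha9
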